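import Mathlib

/-!
# Sections of the generic fibre of an affine morphism over an integral scheme

For an affine morphism `q : T ⟶ X` to an integral scheme and a nonempty affine open `U ⊆ X`, the
ring of global sections of the generic fibre `T ×_X Spec K(X)` is the pushout of
`Γ(T, q⁻¹U) ← Γ(X, U) → K(X)`.
-/

set_option autoImplicit false
universe u

open CategoryTheory CategoryTheory.Limits AlgebraicGeometry

namespace Groth.Agent.H68.GenFib

variable {X T : Scheme.{u}} [IsIntegral X] (q : T ⟶ X)

theorem genericPoint_mem' {U : X.Opens} (hne : (U : Set X).Nonempty) : genericPoint X ∈ U :=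
  ((genericPoint_spec X).mem_open_set_iff U.2).mpr (by simpa using hne)

theorem preimage_fromSpecStalk_eq_top {U : X.Opens} (hne : (U : Set X).Nonempty) :
    (X.fromSpecStalk (genericPoint X)) ⁻¹ᵁ U = ⊤ := by
  rw [eq_top_iff]
  intro z _
  have hz : (X.fromSpecStalk (genericPoint X)) z ∈ Set.range (X.fromSpecStalk (genericPoint X)) :=
    ⟨z, rfl⟩
  rw [Scheme.range_fromSpecStalk] at hz
  exact hz.mem_open U.2 (genericPoint_mem' hne)

theorem fst_preimage_eq_top {U : X.Opens} (hne : (U : Set X).Nonempty) :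
    (pullback.fst q (X.fromSpecStalk (genericPoint X))) ⁻¹ᵁ (q ⁻¹ᵁ U) = ⊤ := by
  rw [← Scheme.Hom.comp_preimage, pullback.condition, Scheme.Hom.comp_preimage,
    preimage_fromSpecStalk_eq_top hne]
  rfl

/-- The square of sections of the generic fibre. -/
theorem isPushout_genericFibre [IsAffineHom q] {U : X.Opens} (hU : IsAffineOpen U)
    (hne : (U : Set X).Nonempty) :
    IsPushout (q.app U) (X.presheaf.germ U (genericPoint X) (genericPoint_mem' hne))
      ((pullback.fst q (X.fromSpecStalk (genericPoint X))).appLE (q ⁻¹ᵁ U) ⊤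
        (fst_preimage_eq_top q hne).ge)
      ((Scheme.ΓSpecIso (X.presheaf.stalk (genericPoint X))).inv ≫
        (pullback.snd q (X.fromSpecStalk (genericPoint X))).appTop) := by
  have H := IsPullback.of_hasPullback q (X.fromSpecStalk (genericPoint X))
  have hUST : (⊤ : (Spec (X.presheaf.stalk (genericPoint X))).Opens) ≤
      (X.fromSpecStalk (genericPoint X)) ⁻¹ᵁ U := (preimage_fromSpecStalk_eq_top hne).ge
  have hUSX : q ⁻¹ᵁ U ≤ q ⁻¹ᵁ U := le_rfl
  have hUY : (⊤ : (pullback q (X.fromSpecStalk (genericPoint X))).Opens) =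
      (pullback.fst q (X.fromSpecStalk (genericPoint X))) ⁻¹ᵁ (q ⁻¹ᵁ U) ⊓
        (pullback.snd q (X.fromSpecStalk (genericPoint X))) ⁻¹ᵁ ⊤ := by
    rw [fst_preimage_eq_top q hne]
    simp
  have h1 := (isIso_pushoutSection_iff H hUST hUSX hUY).mp
    (isIso_pushoutSection_of_isAffineOpen H hUST hUSX hUY hU (isAffineOpen_top _)
      (hU.preimage q))
  refine h1.of_iso (Iso.refl _) (Iso.refl _)
    (Scheme.ΓSpecIso (X.presheaf.stalk (genericPoint X))) (Iso.refl _) ?_ ?_ ?_ ?_
  · simp [Scheme.Hom.app_eq_appLE]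
  · rw [Iso.refl_hom, Category.id_comp, Scheme.Hom.appLE, Scheme.fromSpecStalk_app
      (genericPoint_mem' hne)]
    simp only [Category.assoc, ← Functor.map_comp]
    have : (Spec (X.presheaf.stalk (genericPoint X))).presheaf.map
        ((homOfLE (le_top : (X.fromSpecStalk (genericPoint X)) ⁻¹ᵁ U ≤ ⊤)).op ≫
          (homOfLE hUST).op) = 𝟙 _ := by
      rw [← (Spec (X.presheaf.stalk (genericPoint X))).presheaf.map_id]
      rfl
    rw [this, Category.id_comp, Iso.inv_hom_id, Category.comp_id]
  · simp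
  · simp [Scheme.Hom.appTop, Scheme.Hom.appLE]
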