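import Mathlib
import Groth.Prelude.Def_Pi1
import Groth.Agent.H38.NormExt2
import Groth.Agent.H68.GenFib.Square

/-!
# Maps to a field extension `L` of the function field from schemes under `Spec L`
-/

set_option autoImplicit false
set_option linter.style.haveILetI false
universe u

open CategoryTheory CategoryTheory.Limits AlgebraicGeometry

namespace Groth.Agent.H68.GenFib

open Groth.Agent.H38.NormExt

variable {X : Scheme.{u}} [IsIntegral X] (L : Type u) [Field L] [Algebra X.functionField L]

/-- The morphism `Spec L ⟶ X`. -/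
noncomputable abbrev gL : Spec (CommRingCat.of L) ⟶ X :=
  gMor X L (algebraMap X.functionField L)

variable {L}
variable {T : Scheme.{u}} (q : T ⟶ X) (τ : Spec (CommRingCat.of L) ⟶ T) (hτ : τ ≫ q = gL L)

include hτ in
theorem tau_preimage_eq_top {U : X.Opens} (hne : (U : Set X).Nonempty) :
    τ ⁻¹ᵁ (q ⁻¹ᵁ U) = ⊤ := by
  rw [← Scheme.Hom.comp_preimage, hτ]
  exact preimage_eq_top X L _ hne

/-- The ring map `Γ(T, q⁻¹U) ⟶ L` induced by `τ : Spec L ⟶ T`. -/
noncomputable def tauMap {U : X.Opens} (hne : (U : Set X).Nonempty) :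
    Γ(T, q ⁻¹ᵁ U) ⟶ CommRingCat.of L :=
  τ.appLE (q ⁻¹ᵁ U) ⊤ (tau_preimage_eq_top q τ hτ hne).ge ≫
    (Scheme.ΓSpecIso (CommRingCat.of L)).hom

/-- `tauMap` is compatible with the structure maps. -/
theorem app_tauMap {U : X.Opens} (hne : (U : Set X).Nonempty) :
    q.app U ≫ tauMap q τ hτ hne =
      X.presheaf.germ U (genericPoint X) (genericPoint_mem' hne) ≫
        CommRingCat.ofHom (algebraMap X.functionField L) := by
  unfold tauMap
  rw [Scheme.Hom.app_eq_appLE, Scheme.Hom.appLE_comp_appLE_assoc]
  have key : ∀ (g' : Spec (CommRingCat.of L) ⟶ X) (hg : g' = gL L)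
      (e : (⊤ : (Spec (CommRingCat.of L)).Opens) ≤ g' ⁻¹ᵁ U),
      g'.appLE U ⊤ e ≫ (Scheme.ΓSpecIso (CommRingCat.of L)).hom =
        X.presheaf.germ U (genericPoint X) (genericPoint_mem' hne) ≫
          CommRingCat.ofHom (algebraMap X.functionField L) := by
    intro g' hg e
    subst hg
    rw [Scheme.Hom.appLE, app_eq X L _ hne]
    unfold jMap
    simp only [Category.assoc, ← Functor.map_comp]
    have : (Spec (CommRingCat.of L)).presheaf.map
        ((homOfLE (le_top : (gL L) ⁻¹ᵁ U ≤ ⊤)).op ≫ (homOfLE e).op) = 𝟙 _ := by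
      rw [← (Spec (CommRingCat.of L)).presheaf.map_id]
      rfl
    rw [this, Category.id_comp, Iso.inv_hom_id, Category.comp_id]
  exact key _ hτ _

theorem tauMap_congr {τ' : Spec (CommRingCat.of L) ⟶ T} (h : τ = τ')
    {U : X.Opens} (hne : (U : Set X).Nonempty) :
    tauMap q τ hτ hne = tauMap q τ' (h ▸ hτ) hne := by
  subst h
  rfl

/-- Functoriality of `tauMap`. -/
theorem appLE_tauMap {T' : Scheme.{u}} (q' : T' ⟶ X) (h : T ⟶ T') (hq : h ≫ q' = q)
    {U : X.Opens} (hne : (U : Set X).Nonempty) :
    h.appLE (q' ⁻¹ᵁ U) (q ⁻¹ᵁ U) (by rw [← hq, Scheme.Hom.comp_preimage]) ≫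
        tauMap q τ hτ hne =
      tauMap q' (τ ≫ h) (by rw [Category.assoc, hq, hτ]) hne := by
  unfold tauMap
  rw [Scheme.Hom.appLE_comp_appLE_assoc]

section normalization

variable (L)
variable [QuasiCompact (gL (X := X) L)] [QuasiSeparated (gL (X := X) L)]

/-- For the normalization, `tauMap` is the map `toK` of `H38.NormExt`. -/
theorem tauMap_toNormalization {U : X.Opens} (hU : IsAffineOpen U) (hne : (U : Set X).Nonempty) :
    tauMap (gL (X := X) L).fromNormalization (gL (X := X) L).toNormalization
      (gL (X := X) L).toNormalization_fromNormalization hne =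
      toK X L (algebraMap X.functionField L) hU hne := by
  haveI := isIso_jMap X L (algebraMap X.functionField L) hne
  rw [← cancel_mono (jMap X L (algebraMap X.functionField L) U)]
  unfold toK
  simp only [Category.assoc, asIso_inv, IsIso.inv_hom_id, Category.comp_id]
  have h1 := (gL (X := X) L).normalizationObjIso_hom_val hU
  refine Eq.trans ?_ h1.symm
  unfold tauMap jMap
  simp only [Category.assoc, Iso.hom_inv_id_assoc]
  exact Scheme.Hom.appLE_map _ _ _

theorem tauMap_toNormalization_injective {U : X.Opens} (hU : IsAffineOpen U)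
    (hne : (U : Set X).Nonempty) :
    Function.Injective (tauMap (gL (X := X) L).fromNormalization (gL (X := X) L).toNormalization
      (gL (X := X) L).toNormalization_fromNormalization hne).hom := by
  rw [tauMap_toNormalization L hU hne]
  exact toK_injective X L _ hU hne

theorem mem_range_tauMap_toNormalization_iff {U : X.Opens} (hU : IsAffineOpen U)
    (hne : (U : Set X).Nonempty) (y : L) :
    y ∈ (tauMap (gL (X := X) L).fromNormalization (gL (X := X) L).toNormalization
      (gL (X := X) L).toNormalization_fromNormalization hne).hom.range ↔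
      ((algebraMap X.functionField L).comp
        (X.presheaf.germ U (genericPoint X) (genericPoint_mem' hne)).hom).IsIntegralElem y := by
  rw [tauMap_toNormalization L hU hne]
  exact mem_range_toK_iff X L _ hU hne y

end normalization

end Groth.Agent.H68.GenFib
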