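import Mathlib
import Groth.Agent.H68.GenFib.Tau

/-!
# The generic fibre of an affine morphism and `Spec L`
-/

set_option autoImplicit false
set_option linter.style.haveILetI false
universe u

open CategoryTheory CategoryTheory.Limits AlgebraicGeometry

namespace Groth.Agent.H68.GenFib

variable {X : Scheme.{u}} [IsIntegral X] {L : Type u} [Field L] [Algebra X.functionField L]
variable {T : Scheme.{u}} (q : T ⟶ X) [IsAffineHom q]

section fwd

variable (β : pullback q (X.fromSpecStalk (genericPoint X)) ≅ Spec (CommRingCat.of L))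
  (hβ : β.hom ≫ Spec.map (CommRingCat.ofHom (algebraMap X.functionField L)) =
    pullback.snd q (X.fromSpecStalk (genericPoint X)))

include hβ in
theorem tau_of_iso_comp :
    (β.inv ≫ pullback.fst q (X.fromSpecStalk (genericPoint X))) ≫ q = gL L := by
  have hinv : β.inv ≫ pullback.snd q (X.fromSpecStalk (genericPoint X)) =
      Spec.map (CommRingCat.ofHom (algebraMap X.functionField L)) := by
    rw [Iso.inv_comp_eq, hβ]
  rw [Category.assoc, pullback.condition, ← Category.assoc, hinv]

/-- If the generic fibre of `q` is `Spec L`, the sections of `T` over `q⁻¹U`, tensored with the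
function field, give `L`. -/
theorem isPushout_tauMap_of_iso {U : X.Opens} (hU : IsAffineOpen U) (hne : (U : Set X).Nonempty) :
    IsPushout (q.app U) (X.presheaf.germ U (genericPoint X) (genericPoint_mem' hne))
      (tauMap q (β.inv ≫ pullback.fst q (X.fromSpecStalk (genericPoint X)))
        (tau_of_iso_comp q β hβ) hne)
      (CommRingCat.ofHom (algebraMap X.functionField L)) := by
  have h1 := isPushout_genericFibre q hU hne
  have hinv : β.inv ≫ pullback.snd q (X.fromSpecStalk (genericPoint X)) =
      Spec.map (CommRingCat.ofHom (algebraMap X.functionField L)) := by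
    rw [Iso.inv_comp_eq, hβ]
  haveI : IsIso β.inv.appTop := inferInstanceAs (IsIso (β.inv.app ⊤))
  refine h1.of_iso (Iso.refl _) (Iso.refl _) (Iso.refl _)
    (asIso β.inv.appTop ≪≫ Scheme.ΓSpecIso (CommRingCat.of L)) ?_ ?_ ?_ ?_
  · simp
  · simp
  · simp only [Iso.refl_hom, Category.id_comp, Iso.trans_hom, asIso_hom]
    unfold tauMap
    rw [← Category.assoc]
    congr 1
    exact Scheme.Hom.appLE_comp_appLE β.inv _ (q ⁻¹ᵁ U) ⊤ ⊤ _ le_top
  · simp only [Iso.refl_hom, Category.id_comp, Iso.trans_hom, asIso_hom, Category.assoc]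
    rw [← Scheme.Hom.comp_appTop_assoc]
    have h2 : (β.inv ≫ pullback.snd q (X.fromSpecStalk (genericPoint X))).appTop =
        (Spec.map (CommRingCat.ofHom (algebraMap X.functionField L))).appTop := by rw [hinv]
    rw [h2, Scheme.ΓSpecIso_naturality]
    exact Iso.inv_hom_id_assoc (Scheme.ΓSpecIso (X.presheaf.stalk (genericPoint X))) _

end fwd

section bwd

variable (τ : Spec (CommRingCat.of L) ⟶ T) (hτ : τ ≫ q = gL L)

/-- If `L` is the pushout of `Γ(T, q⁻¹U) ← Γ(X, U) → K(X)` via `τ`, then `Spec L` is the generic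
fibre of `q`. -/
theorem isIso_lift_of_isPushout {U : X.Opens} (hU : IsAffineOpen U) (hne : (U : Set X).Nonempty)
    (h2 : IsPushout (q.app U) (X.presheaf.germ U (genericPoint X) (genericPoint_mem' hne))
      (tauMap q τ hτ hne) (CommRingCat.ofHom (algebraMap X.functionField L))) :
    IsIso (pullback.lift τ (Spec.map (CommRingCat.ofHom (algebraMap X.functionField L))) hτ :
      Spec (CommRingCat.of L) ⟶ pullback q (X.fromSpecStalk (genericPoint X))) := by
  set c := (pullback.lift τ (Spec.map (CommRingCat.ofHom (algebraMap X.functionField L))) hτ :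
      Spec (CommRingCat.of L) ⟶ pullback q (X.fromSpecStalk (genericPoint X))) with hc
  have h1 := isPushout_genericFibre q hU hne
  have hfst : c ≫ pullback.fst q (X.fromSpecStalk (genericPoint X)) = τ := pullback.lift_fst _ _ _
  have hsnd : c ≫ pullback.snd q (X.fromSpecStalk (genericPoint X)) =
      Spec.map (CommRingCat.ofHom (algebraMap X.functionField L)) := pullback.lift_snd _ _ _
  -- the comparison map
  set κ : Γ(pullback q (X.fromSpecStalk (genericPoint X)), ⊤) ⟶ CommRingCat.of L :=
    c.appTop ≫ (Scheme.ΓSpecIso (CommRingCat.of L)).hom with hκ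
  have e1 : (pullback.fst q (X.fromSpecStalk (genericPoint X))).appLE (q ⁻¹ᵁ U) ⊤
      (fst_preimage_eq_top q hne).ge ≫ κ = tauMap q τ hτ hne := by
    rw [hκ, ← Category.assoc]
    unfold tauMap
    congr 1
    have := Scheme.Hom.appLE_comp_appLE c (pullback.fst q (X.fromSpecStalk (genericPoint X)))
      (q ⁻¹ᵁ U) ⊤ ⊤ (fst_preimage_eq_top q hne).ge le_top
    refine this.trans ?_
    congr 1
  have e2 : ((Scheme.ΓSpecIso (X.presheaf.stalk (genericPoint X))).inv ≫
        (pullback.snd q (X.fromSpecStalk (genericPoint X))).appTop) ≫ κ =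
      CommRingCat.ofHom (algebraMap X.functionField L) := by
    rw [hκ]
    simp only [Category.assoc]
    rw [← Scheme.Hom.comp_appTop_assoc]
    have h3 : (c ≫ pullback.snd q (X.fromSpecStalk (genericPoint X))).appTop =
        (Spec.map (CommRingCat.ofHom (algebraMap X.functionField L))).appTop := by rw [hsnd]
    rw [h3, Scheme.ΓSpecIso_naturality]
    exact Iso.inv_hom_id_assoc (Scheme.ΓSpecIso (X.presheaf.stalk (genericPoint X))) _
  have hκiso : IsIso κ := by
    have : κ = (h1.isoIsPushout _ _ h2).hom := by
      apply h1.hom_ext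
      · exact e1.trans (IsPushout.inl_isoIsPushout_hom _ _ h1 h2).symm
      · exact e2.trans (IsPushout.inr_isoIsPushout_hom _ _ h1 h2).symm
    rw [this]
    infer_instance
  have hcTop : IsIso c.appTop := by
    have : c.appTop = κ ≫ (Scheme.ΓSpecIso (CommRingCat.of L)).inv := by
      rw [hκ, Category.assoc, Iso.hom_inv_id, Category.comp_id]
    rw [this]
    infer_instance
  exact (HasAffineProperty.iff_of_isAffine (P := MorphismProperty.isomorphisms Scheme)).mpr
    ⟨inferInstance, hcTop⟩

end bwd

end Groth.Agent.H68.GenFib
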