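import Mathlib
import Groth.Agent.H10.WeaklyEtaleNormal

/-!
# Ring-level lemmas on generic fibres over a normal domain
-/

set_option autoImplicit false
set_option linter.style.haveILetI false
universe u

open CategoryTheory CategoryTheory.Limits TensorProduct

namespace Groth.Agent.H68.GenFib

/-- If `B` is étale over a normal domain `A` with fraction field `K` and `L = B ⊗_A K`, then
`B → L` is injective and every element of `L` integral over `A` comes from `B`. -/
theorem injective_and_integral_mem_range {A B K L : Type u} [CommRing A] [IsDomain A]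
    [IsIntegrallyClosed A] [CommRing B] [Field K] [CommRing L]
    (f : A →+* B) (k : A →+* K) (a : B →+* L) (b : K →+* L)
    (hk : letI := k.toAlgebra; IsFractionRing A K) (hf : f.Etale)
    (h : IsPushout (CommRingCat.ofHom f) (CommRingCat.ofHom k) (CommRingCat.ofHom a)
      (CommRingCat.ofHom b)) :
    Function.Injective a ∧ ∀ y : L, (b.comp k).IsIntegralElem y → y ∈ a.range := by
  have hw : a.comp f = b.comp k := by
    have := h.w
    exact congrArg CommRingCat.Hom.hom this
  letI := k.toAlgebra
  letI := f.toAlgebra
  letI := a.toAlgebra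
  letI := b.toAlgebra
  letI := (b.comp k).toAlgebra
  haveI : IsFractionRing A K := hk
  haveI : IsScalarTower A K L := .of_algebraMap_eq' rfl
  haveI : IsScalarTower A B L := .of_algebraMap_eq' hw.symm
  haveI : Algebra.Etale A B := hf
  have hP : Algebra.IsPushout A B K L := CommRingCat.isPushout_iff_isPushout.mp h
  let e : B ⊗[A] K ≃ₐ[B] L := Algebra.IsPushout.equiv A B K L
  have hic : IsIntegrallyClosedIn B (B ⊗[A] K) := Groth.Agent.H10.WEN.main A K B
  constructor
  · intro x y hxy
    have h1 : algebraMap B L x = algebraMap B L y := hxy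
    rw [← e.commutes x, ← e.commutes y] at h1
    exact (IsIntegralClosure.algebraMap_injective B B (B ⊗[A] K)) (e.injective h1)
  · intro y hy
    have hyA : IsIntegral A y := hy
    have hyB : IsIntegral B y := hyA.tower_top
    have h2 : IsIntegral B (e.symm y) := hyB.map e.symm
    obtain ⟨x, hx⟩ := (IsIntegralClosure.isIntegral_iff (R := B) (A := B) (B := B ⊗[A] K)).mp h2
    refine ⟨x, ?_⟩
    change algebraMap B L x = y
    rw [← e.commutes x, hx, AlgEquiv.apply_symm_apply]

/-- If `A'` is the integral closure of the domain `A` in an algebraic extension `L` of its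
fraction field `K`, then `L = A' ⊗_A K`. -/
theorem isPushout_of_integralClosure {A A' K L : Type u} [CommRing A] [IsDomain A]
    [CommRing A'] [Field K] [Field L]
    (f : A →+* A') (k : A →+* K) (a : A' →+* L) (b : K →+* L)
    (hk : letI := k.toAlgebra; IsFractionRing A K)
    (halg : b.IsIntegral)
    (hw : a.comp f = b.comp k) (ha : Function.Injective a)
    (hrange : ∀ y : L, y ∈ a.range ↔ (b.comp k).IsIntegralElem y) :
    IsPushout (CommRingCat.ofHom f) (CommRingCat.ofHom k) (CommRingCat.ofHom a)
      (CommRingCat.ofHom b) := by
  letI := k.toAlgebra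
  letI := f.toAlgebra
  letI := a.toAlgebra
  letI := b.toAlgebra
  letI := (b.comp k).toAlgebra
  haveI : IsFractionRing A K := hk
  haveI : Algebra.IsIntegral K L := ⟨halg⟩
  haveI : IsScalarTower A K L := .of_algebraMap_eq' rfl
  haveI : IsScalarTower A A' L := .of_algebraMap_eq' hw.symm
  haveI : IsIntegralClosure A' A L :=
    ⟨ha, fun {y} => by
      constructor
      · intro hy
        obtain ⟨x, hx⟩ := (hrange y).mpr hy
        exact ⟨x, hx⟩
      · rintro ⟨x, hx⟩
        exact (hrange y).mp ⟨x, hx⟩⟩
  haveI : IsLocalization (Algebra.algebraMapSubmonoid A' (nonZeroDivisors A)) L :=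
    IsIntegralClosure.isLocalization A K L A'
  have hP : Algebra.IsPushout A A' K L :=
    Algebra.isPushout_of_isLocalization (nonZeroDivisors A) K A' L
  exact CommRingCat.isPushout_iff_isPushout.mpr hP

end Groth.Agent.H68.GenFib
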