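import Mathlib
import Groth.Prelude.Def_Pi1
import Groth.Agent.H38.NormUP8
import Groth.Agent.H68.GenFib.Ring
import Groth.Agent.H68.GenFib.Fibre

/-!
# Finite étale covers of a normal integral scheme with generic fibre `Spec L`
are the normalization in `L`
-/

set_option autoImplicit false
set_option linter.style.haveILetI false
set_option linter.unusedSectionVars false
universe u

open CategoryTheory CategoryTheory.Limits AlgebraicGeometry

namespace Groth.Agent.H68.GenFib

variable {X : Scheme.{u}} [IsIntegral X]

theorem isDomain_sections {U : X.Opens} (hne : (U : Set X).Nonempty) : IsDomain Γ(X, U) := by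
  have : Nonempty U := ⟨⟨_, hne.some_mem⟩⟩
  infer_instance

theorem isFractionRing_germ' {U : X.Opens} (hU : IsAffineOpen U) (hne : (U : Set X).Nonempty) :
    letI := (X.presheaf.germ U (genericPoint X) (genericPoint_mem' hne)).hom.toAlgebra
    IsFractionRing Γ(X, U) X.functionField := by
  have : Nonempty U := ⟨⟨_, hne.some_mem⟩⟩
  exact functionField_isFractionRing_of_isAffineOpen X U hU

variable (hX : Pi1.IsNormalScheme X)
  (L : Type u) [Field L] [Algebra X.functionField L]

section fwd

variable {Z : Scheme.{u}} (p : Z ⟶ X) [IsFinite p] [Etale p]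
  (β : pullback p (X.fromSpecStalk (genericPoint X)) ≅ Spec (CommRingCat.of L))
  (hβ : β.hom ≫ Spec.map (CommRingCat.ofHom (algebraMap X.functionField L)) =
    pullback.snd p (X.fromSpecStalk (genericPoint X)))

include hX in
/-- The map `Γ(Z, p⁻¹U) → L` is injective with image containing all integral elements. -/
theorem tauMap_of_iso_props {U : X.Opens} (hU : IsAffineOpen U) (hne : (U : Set X).Nonempty) :
    Function.Injective (tauMap p (β.inv ≫ pullback.fst p (X.fromSpecStalk (genericPoint X)))
        (tau_of_iso_comp p β hβ) hne).hom ∧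
      ∀ y : L, ((algebraMap X.functionField L).comp
        (X.presheaf.germ U (genericPoint X) (genericPoint_mem' hne)).hom).IsIntegralElem y →
        y ∈ (tauMap p (β.inv ≫ pullback.fst p (X.fromSpecStalk (genericPoint X)))
          (tau_of_iso_comp p β hβ) hne).hom.range := by
  haveI := isDomain_sections hne
  haveI : IsIntegrallyClosed Γ(X, U) :=
    Groth.Agent.H38.NormUP.isIntegrallyClosed_sections_of_stalk U hU hne (fun x _ => (hX x).2)
  have sq := isPushout_tauMap_of_iso p β hβ hU hne
  have hf : (p.app U).hom.Etale := by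
    rw [Scheme.Hom.app_eq_appLE]
    exact HasRingHomProperty.appLE (P := @Etale) p inferInstance ⟨U, hU⟩
      ⟨p ⁻¹ᵁ U, hU.preimage p⟩ le_rfl
  exact injective_and_integral_mem_range (p.app U).hom
    (X.presheaf.germ U (genericPoint X) (genericPoint_mem' hne)).hom
    (tauMap p (β.inv ≫ pullback.fst p (X.fromSpecStalk (genericPoint X)))
      (tau_of_iso_comp p β hβ) hne).hom (algebraMap X.functionField L)
    (isFractionRing_germ' hU hne) hf sq

variable [QuasiCompact (gL (X := X) L)] [QuasiSeparated (gL (X := X) L)]

/-- The canonical morphism from the normalization of `X` in `L` to `Z`. -/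
noncomputable def normToCover : (gL (X := X) L).normalization ⟶ Z :=
  (gL (X := X) L).normalizationDesc
    (β.inv ≫ pullback.fst p (X.fromSpecStalk (genericPoint X))) p (tau_of_iso_comp p β hβ).symm

theorem toNormalization_normToCover :
    (gL (X := X) L).toNormalization ≫ normToCover L p β hβ =
      β.inv ≫ pullback.fst p (X.fromSpecStalk (genericPoint X)) :=
  (gL (X := X) L).toNormalization_normalizationDesc _ _ _

theorem normToCover_comp :
    normToCover L p β hβ ≫ p = (gL (X := X) L).fromNormalization :=
  (gL (X := X) L).normalizationDesc_comp _ _ _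

instance : IsIntegralHom (normToCover L p β hβ) := by
  unfold normToCover
  infer_instance

include hX in
theorem isIso_app_normToCover {U : X.Opens} (hU : IsAffineOpen U) (hne : (U : Set X).Nonempty) :
    IsIso ((normToCover L p β hβ).app (p ⁻¹ᵁ U)) := by
  set h := normToCover L p β hβ with hh
  set ν := (gL (X := X) L).fromNormalization with hν
  have hle : ν ⁻¹ᵁ U ≤ h ⁻¹ᵁ (p ⁻¹ᵁ U) := by
    rw [← Scheme.Hom.comp_preimage, hh, normToCover_comp]
  have hθ := appLE_tauMap ν (gL (X := X) L).toNormalization
    (gL (X := X) L).toNormalization_fromNormalization p h (normToCover_comp L p β hβ) hne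
  rw [tauMap_congr p _ _ (toNormalization_normToCover L p β hβ) hne] at hθ
  obtain ⟨hinj, hsurj⟩ := tauMap_of_iso_props hX L p β hβ hU hne
  have hNinj := tauMap_toNormalization_injective (X := X) L hU hne
  have hNrange := mem_range_tauMap_toNormalization_iff (X := X) L hU hne
  set θ := h.appLE (p ⁻¹ᵁ U) (ν ⁻¹ᵁ U) hle with hθdef
  have hθ' : ∀ b, (tauMap ν (gL (X := X) L).toNormalization
      (gL (X := X) L).toNormalization_fromNormalization hne).hom (θ.hom b) =
      (tauMap p (β.inv ≫ pullback.fst p (X.fromSpecStalk (genericPoint X)))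
        (tau_of_iso_comp p β hβ) hne).hom b := by
    intro b
    have := congrArg (fun m => m.hom b) hθ
    exact this
  have hbij : Function.Bijective θ.hom := by
    constructor
    · intro b b' hb
      apply hinj
      rw [← hθ', ← hθ', hb]
    · intro a'
      obtain ⟨b, hb⟩ := hsurj _ ((hNrange _).mp ⟨a', rfl⟩)
      refine ⟨b, hNinj ?_⟩
      rw [hθ']
      exact hb
  have hθiso : IsIso θ := (ConcreteCategory.isIso_iff_bijective θ).mpr hbij
  have heq : θ = h.app (p ⁻¹ᵁ U) ≫
      (gL (X := X) L).normalization.presheaf.map (homOfLE hle).op := rfl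
  have hle' : h ⁻¹ᵁ (p ⁻¹ᵁ U) ≤ ν ⁻¹ᵁ U := by
    rw [← Scheme.Hom.comp_preimage, hh, normToCover_comp]
  haveI : IsIso ((gL (X := X) L).normalization.presheaf.map (homOfLE hle).op) := by
    refine ⟨(gL (X := X) L).normalization.presheaf.map (homOfLE hle').op, ?_, ?_⟩
    · rw [← Functor.map_comp, ← (gL (X := X) L).normalization.presheaf.map_id]; rfl
    · rw [← Functor.map_comp, ← (gL (X := X) L).normalization.presheaf.map_id]; rfl
  rw [heq] at hθiso
  exact IsIso.of_isIso_comp_right _ ((gL (X := X) L).normalization.presheaf.map (homOfLE hle).op)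

include hX in
theorem isIso_normToCover : IsIso (normToCover L p β hβ) := by
  set h := normToCover L p β hβ with hh
  let ι := {U : X.affineOpens // ((U : X.Opens) : Set X).Nonempty}
  have hsup : (⨆ i : ι, p ⁻¹ᵁ (i.1 : X.Opens)) = ⊤ := by
    rw [eq_top_iff]
    intro z _
    obtain ⟨_, ⟨U, hU, rfl⟩, hzU, -⟩ := X.isBasis_affineOpens.exists_subset_of_mem_open
      (Set.mem_univ (p z)) isOpen_univ
    exact TopologicalSpace.Opens.mem_iSup.mpr ⟨⟨⟨U, hU⟩, ⟨p z, hzU⟩⟩, hzU⟩
  refine IsZariskiLocalAtTarget.of_iSup_eq_top (P := MorphismProperty.isomorphisms Scheme)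
    (fun i : ι => p ⁻¹ᵁ (i.1 : X.Opens)) hsup fun i => ?_
  change IsIso (h ∣_ p ⁻¹ᵁ (i.1 : X.Opens))
  rw [isIso_morphismRestrict_iff_isIso_app h (i.1.2.preimage p)]
  exact isIso_app_normToCover hX L p β hβ i.1.2 i.2

include hX β hβ in
/-- **Forward direction**: if a finite étale cover of `X` has generic fibre `Spec L`, then the
normalization of `X` in `L` is finite étale. -/
theorem etale_finite_fromNormalization :
    Etale (gL (X := X) L).fromNormalization ∧ IsFinite (gL (X := X) L).fromNormalization := by
  haveI := isIso_normToCover hX L p β hβ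
  rw [← normToCover_comp L p β hβ]
  exact ⟨inferInstance, inferInstance⟩

end fwd

section bwd

variable [FiniteDimensional X.functionField L]
variable [QuasiCompact (gL (X := X) L)] [QuasiSeparated (gL (X := X) L)]

/-- **Backward direction**: the generic fibre of the normalization of `X` in `L` is `Spec L`. -/
theorem exists_iso_genericFibre_normalization :
    ∃ c : pullback (gL (X := X) L).fromNormalization (X.fromSpecStalk (genericPoint X)) ≅
        Spec (CommRingCat.of L),
      c.hom ≫ Spec.map (CommRingCat.ofHom (algebraMap X.functionField L)) =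
        pullback.snd (gL (X := X) L).fromNormalization (X.fromSpecStalk (genericPoint X)) := by
  set ν := (gL (X := X) L).fromNormalization with hν
  obtain ⟨_, ⟨U, hU, rfl⟩, hξU, -⟩ := X.isBasis_affineOpens.exists_subset_of_mem_open
    (Set.mem_univ (genericPoint X)) isOpen_univ
  have hne : (U : Set X).Nonempty := ⟨_, hξU⟩
  haveI := isDomain_sections hne
  have hτ := (gL (X := X) L).toNormalization_fromNormalization
  have sq2 : IsPushout (ν.app U) (X.presheaf.germ U (genericPoint X) (genericPoint_mem' hne))
      (tauMap ν (gL (X := X) L).toNormalization hτ hne)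
      (CommRingCat.ofHom (algebraMap X.functionField L)) := by
    refine isPushout_of_integralClosure (ν.app U).hom
      (X.presheaf.germ U (genericPoint X) (genericPoint_mem' hne)).hom
      (tauMap ν (gL (X := X) L).toNormalization hτ hne).hom (algebraMap X.functionField L)
      (isFractionRing_germ' hU hne) ?_ ?_ ?_ ?_
    · exact algebraMap_isIntegral_iff.mpr inferInstance
    · have := app_tauMap ν (gL (X := X) L).toNormalization hτ hne
      exact congrArg CommRingCat.Hom.hom this
    · exact tauMap_toNormalization_injective (X := X) L hU hne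
    · exact mem_range_tauMap_toNormalization_iff (X := X) L hU hne
  haveI hiso := isIso_lift_of_isPushout ν (gL (X := X) L).toNormalization hτ hU hne sq2
  refine ⟨(@asIso _ _ _ _ _ hiso).symm, ?_⟩
  rw [Iso.symm_hom, asIso_inv, IsIso.inv_comp_eq, pullback.lift_snd]
  rfl

end bwd

end Groth.Agent.H68.GenFib
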