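import Mathlib
import Groth.Prelude.Def_Pi1
import Groth.Agent.H68.GenFib.Main

/-!
# Essential image of restriction of finite étale covers to the generic point
-/

set_option autoImplicit false
set_option linter.style.haveILetI false
universe u

open CategoryTheory CategoryTheory.Limits AlgebraicGeometry

namespace Groth.Agent.H68.GenFib

theorem essImage_iff {X : Scheme.{u}} [IsIntegral X] (hX : Pi1.IsNormalScheme X)
    (L : Type u) [Field L] [Algebra X.functionField L] [FiniteDimensional X.functionField L]
    [QuasiCompact (Spec.map (CommRingCat.ofHom (algebraMap X.functionField L)) ≫ X.fromSpecStalk (genericPoint X))] [QuasiSeparated (Spec.map (CommRingCat.ofHom (algebraMap X.functionField L)) ≫ X.fromSpecStalk (genericPoint X))]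
    (Y₀ : FEt.Cat (Spec X.functionField)) (e : Y₀.left ≅ Spec (CommRingCat.of L))
    (he : e.hom ≫ Spec.map (CommRingCat.ofHom (algebraMap X.functionField L)) = Y₀.hom) :
    (FEt.restrict (X.fromSpecStalk (genericPoint X))).essImage Y₀ ↔
      (Etale (Spec.map (CommRingCat.ofHom (algebraMap X.functionField L)) ≫ X.fromSpecStalk (genericPoint X)).fromNormalization ∧ IsFinite (Spec.map (CommRingCat.ofHom (algebraMap X.functionField L)) ≫ X.fromSpecStalk (genericPoint X)).fromNormalization) := by
  constructor
  · rintro ⟨Z, ⟨α⟩⟩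
    haveI : IsFinite Z.hom := Z.prop.1
    haveI : Etale Z.hom := Z.prop.2
    let β₀ : pullback Z.hom (X.fromSpecStalk (genericPoint X)) ≅ Y₀.left :=
      (MorphismProperty.Over.forget _ _ _ ⋙ CategoryTheory.Over.forget _).mapIso α
    have hβ₀ : β₀.hom ≫ Y₀.hom = pullback.snd Z.hom (X.fromSpecStalk (genericPoint X)) :=
      MorphismProperty.Over.w α.hom
    refine etale_finite_fromNormalization hX L Z.hom (β₀ ≪≫ e) ?_
    rw [Iso.trans_hom, Category.assoc, he, hβ₀]
  · rintro ⟨het, hfin⟩
    obtain ⟨c, hc⟩ := exists_iso_genericFibre_normalization (X := X) L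
    let Z : FEt.Cat X := MorphismProperty.Over.mk ⊤ (gL (X := X) L).fromNormalization ⟨hfin, het⟩
    refine ⟨Z, ⟨MorphismProperty.Over.isoMk (c ≪≫ e.symm) ?_⟩⟩
    change (c ≪≫ e.symm).hom ≫ Y₀.hom =
      pullback.snd (gL (X := X) L).fromNormalization (X.fromSpecStalk (genericPoint X))
    rw [Iso.trans_hom, Iso.symm_hom, Category.assoc, ← he, Iso.inv_hom_id_assoc, hc]

end Groth.Agent.H68.GenFib
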